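import Groth.Prelude.Def_CohB1
import Groth.Agent.FlatMor68.P1Modification
import Mathlib.AlgebraicGeometry.Morphisms.QuasiFinite
import Mathlib.AlgebraicGeometry.Morphisms.Proper
import Mathlib.Topology.JacobsonSpace
import Mathlib.Topology.KrullDimension

/-!
An irreducible closed subset of projective space has a coordinate section of dimension zero.
-/

set_option autoImplicit false
set_option linter.style.haveILetI false
set_option backward.isDefEq.respectTransparency.types false

noncomputable section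

universe u

open CategoryTheory AlgebraicGeometry

namespace Groth.Agent.CoordSect95

variable {k : Type u} [Field k] {n : ℕ}

local notation "𝒜" => CohB1.polyGrading n k
local notation "Pr" => ProjectiveSpectrum (CohB1.polyGrading n k)

/-- A closed set of projective space missing a coordinate hyperplane is finite and discrete. -/
theorem dim_eq_zero_of_inter_eq_empty {Z : Set Pr} (hZ : IsClosed Z) (hne : Z.Nonempty) (j : Fin (n + 1))
    (h : Z ∩ ProjectiveSpectrum.zeroLocus 𝒜 {(MvPolynomial.X j : MvPolynomial (Fin (n + 1)) k)} = ∅) :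
    topologicalKrullDim ↥Z = 0 := by
  let P : Scheme.{u} := CohB1.ProjSpace n k
  let U : P.Opens := Proj.basicOpen 𝒜 (MvPolynomial.X j : MvPolynomial (Fin (n + 1)) k)
  have hU : IsAffineOpen U :=
    Proj.isAffineOpen_basicOpen 𝒜 _ (m := 1) (MvPolynomial.isHomogeneous_X k j) one_pos
  let I : P.IdealSheafData := Scheme.IdealSheafData.vanishingIdeal ⟨Z, hZ⟩
  have hrange : Set.range I.subschemeι = Z := by
    rw [Scheme.IdealSheafData.range_subschemeι, Scheme.IdealSheafData.coe_support_vanishingIdeal]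
    rfl
  have hsub : Set.range I.subschemeι ⊆ Set.range U.ι := by
    rw [hrange, Scheme.Opens.range_ι]
    intro x hx
    rw [show (U : Set P) = (ProjectiveSpectrum.zeroLocus 𝒜 {(MvPolynomial.X j : MvPolynomial (Fin (n + 1)) k)})ᶜ
      from ProjectiveSpectrum.basicOpen_eq_zeroLocus_compl 𝒜 _]
    exact fun hx' => (Set.eq_empty_iff_forall_notMem.1 h x) ⟨hx, hx'⟩
  let g := IsOpenImmersion.lift U.ι I.subschemeι hsub
  haveI : IsClosedImmersion (g ≫ U.ι) := by rw [IsOpenImmersion.lift_fac]; infer_instance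
  haveI : IsClosedImmersion g := IsClosedImmersion.of_comp g U.ι
  haveI : IsAffine (U : Scheme.{u}) := hU
  haveI : IsAffine I.subscheme := isAffine_of_isAffineHom g
  haveI := FlatMor68.P1Modification.isProper_toSpec k n
  let s : I.subscheme ⟶ Spec (CommRingCat.of k) := I.subschemeι ≫ CohB1.ProjSpace.toSpec n k
  haveI : IsAffineHom s := isAffineHom_of_isAffine s
  haveI : IsFinite s := IsFinite.iff_isProper_and_isAffineHom.2 ⟨inferInstance, inferInstance⟩
  haveI : Finite I.subscheme := by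
    have h1 : (s ⁻¹' {IsLocalRing.closedPoint k}).Finite := s.finite_preimage_singleton _
    rw [show s ⁻¹' {IsLocalRing.closedPoint k} = Set.univ from
      Set.eq_univ_of_forall fun x => Subsingleton.elim (α := PrimeSpectrum k) _ _] at h1
    exact Set.finite_univ_iff.1 h1
  haveI := LocallyOfFiniteType.jacobsonSpace s
  let ι₀ : I.subscheme → Pr := fun x => I.subschemeι x
  have hι₀ : Topology.IsEmbedding ι₀ := I.subschemeι.isEmbedding
  have he : IsHomeomorph (Set.codRestrict ι₀ Z fun x => hrange ▸ Set.mem_range_self x) :=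
    isHomeomorph_iff_isEmbedding_surjective.2 ⟨hι₀.codRestrict _ _, fun z => by
      obtain ⟨x, hx⟩ := (hrange.symm ▸ z.2 : (z : Pr) ∈ Set.range ι₀)
      exact ⟨x, Subtype.ext hx⟩⟩
  refine (he.topologicalKrullDim_eq).symm.trans ?_
  haveI : Nonempty I.subscheme := by
    obtain ⟨z, hz⟩ := hne
    obtain ⟨x, -⟩ := he.surjective ⟨z, hz⟩
    exact ⟨x⟩
  obtain ⟨x⟩ := ‹Nonempty I.subscheme›
  haveI : Nonempty (TopologicalSpace.IrreducibleCloseds I.subscheme) :=
    ⟨⟨{x}, isIrreducible_singleton, isClosed_discrete _⟩⟩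
  exact le_antisymm (topologicalKrullDim_zero_of_discreteTopology _) Order.krullDim_nonneg

variable (n k) in
/-- the coordinate functions `X₁, …, Xᵢ` -/
def coords (i : ℕ) : Set (MvPolynomial (Fin (n + 1)) k) :=
  (fun j : Fin (n + 1) => (MvPolynomial.X j : MvPolynomial (Fin (n + 1)) k)) ''
    {j : Fin (n + 1) | 1 ≤ j.val ∧ j.val ≤ i}

theorem main (C : Set Pr) (hC : IsClosed C) (hirr : IsIrreducible C) :
    ∃ i : ℕ, i ≤ n ∧ (C ∩ ProjectiveSpectrum.zeroLocus 𝒜 (coords k n i)).Nonempty ∧
      topologicalKrullDim ↥(C ∩ ProjectiveSpectrum.zeroLocus 𝒜 (coords k n i)) = 0 := by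
  classical
  let Q : ℕ → Prop := fun i => (C ∩ ProjectiveSpectrum.zeroLocus 𝒜 (coords k n i)).Nonempty
  have h0 : Q 0 := by
    obtain ⟨x, hx⟩ := hirr.1
    refine ⟨x, hx, (ProjectiveSpectrum.mem_zeroLocus _ _ _).2 ?_⟩
    rintro _ ⟨j, ⟨h1, h2⟩, rfl⟩
    omega
  let i := Nat.findGreatest Q n
  have hi : Q i := Nat.findGreatest_spec (Nat.zero_le n) h0
  have hcl : IsClosed (C ∩ ProjectiveSpectrum.zeroLocus 𝒜 (coords k n i)) :=
    hC.inter (ProjectiveSpectrum.isClosed_zeroLocus _ _)
  refine ⟨i, Nat.findGreatest_le n, hi, ?_⟩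
  rcases (Nat.findGreatest_le n : i ≤ n).lt_or_eq with hlt | heq
  · refine dim_eq_zero_of_inter_eq_empty hcl hi ⟨i + 1, by omega⟩ ?_
    by_contra hne
    obtain ⟨x, ⟨hxC, hx⟩, hx'⟩ := Set.nonempty_iff_ne_empty.2 hne
    refine Nat.findGreatest_is_greatest (lt_add_one i) hlt ⟨x, hxC, (ProjectiveSpectrum.mem_zeroLocus _ _ _).2 ?_⟩
    rintro _ ⟨l, ⟨h1, h2⟩, rfl⟩
    rcases Nat.lt_or_eq_of_le h2 with h2 | h2
    · exact (ProjectiveSpectrum.mem_zeroLocus _ _ _).1 hx ⟨l, ⟨h1, Nat.lt_succ_iff.1 h2⟩, rfl⟩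
    · rw [show l = ⟨i + 1, by omega⟩ from Fin.ext h2]
      exact (ProjectiveSpectrum.mem_zeroLocus _ _ _).1 hx' rfl
  · refine dim_eq_zero_of_inter_eq_empty hcl hi 0 ?_
    by_contra hne
    obtain ⟨x, ⟨-, hx⟩, hx'⟩ := Set.nonempty_iff_ne_empty.2 hne
    have hall : ∀ l : Fin (n + 1),
        (MvPolynomial.X l : MvPolynomial (Fin (n + 1)) k) ∈ x.asHomogeneousIdeal := by
      intro l
      by_cases hl : l = 0
      · exact hl ▸ (ProjectiveSpectrum.mem_zeroLocus _ _ _).1 hx' rfl
      · refine (ProjectiveSpectrum.mem_zeroLocus _ _ _).1 hx ⟨l, ⟨Nat.pos_of_ne_zero fun h => hl (Fin.ext h), ?_⟩, rfl⟩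
        have := l.isLt
        omega
    have hle : ∀ {ι : Type} (f : ι → MvPolynomial (Fin (n + 1)) k),
        (∀ l, f l ∈ x.asHomogeneousIdeal) → Ideal.span (Set.range f) ≤ x.asHomogeneousIdeal.toIdeal :=
      fun f hf => Ideal.span_le.2 (Set.range_subset_iff.2 hf)
    refine x.not_irrelevant_le fun a ha => hle _ hall ?_
    rw [← Set.image_univ, MvPolynomial.mem_ideal_span_X_image]
    intro m hm
    have h1 : MvPolynomial.homogeneousComponent 0 a = 0 := by
      have := (HomogeneousIdeal.mem_irrelevant_iff _ a).1 ha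
      rw [GradedRing.proj_apply] at this
      exact (MvPolynomial.decomposition.decompose'_apply a 0).symm.trans this
    rw [MvPolynomial.homogeneousComponent_zero] at h1
    by_contra hm'
    push Not at hm'
    have hm0 : m = 0 := Finsupp.ext fun l => hm' l trivial
    rw [MvPolynomial.mem_support_iff, hm0] at hm
    exact hm (by simpa using h1)

end Groth.Agent.CoordSect95
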